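import Cfsg.Agent.CGM.Rep
import Cfsg.Agent.CGT.Pres

/-!
Matrix representations `φ : G →* GL (Fin n) (ZMod p)` given by packed codes of the images of columns
`γ c`; evaluation of word expressions on matrices and on batches of row vectors; permutation
representations of subgroups on lists of vectors; divisibility chains.
-/

set_option autoImplicit false

namespace CL.SpM

open CL.CGM CL.CGT Matrix

noncomputable section

/-- word expressions as terms -/
def toTm (e : WE) : Tm :=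
  @WE.rec (fun _ => Tm) (fun c => Tm.gen c) (fun _ _ a b => Tm.mul a b) (fun _ a => Tm.inv a)
    (fun _ k a => Tm.pow a k) e

theorem eval_toTm {G : Type*} [Group G] (γ : ℕ → G) (e : WE) : (toTm e).eval γ = e.eval γ := by
  induction e with
  | g c => rfl
  | mul a b iha ihb => exact congrArg₂ (· * ·) iha ihb
  | inv a ih => exact congrArg (·⁻¹) ih
  | pow a k ih => exact congrArg (· ^ k) ih

/-- the code of the matrix of a word expression -/
def evM (c : PCtx) (g iv : ℕ → ℕ) (e : WE) : ℕ :=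
  Tm.evalC c.mul (idCode c.n c.w) g (fun i => g (iv i)) (toTm e)

/-- iterate a function -/
def iter (f : ℕ → ℕ) (k : ℕ) : ℕ → ℕ :=
  @Nat.rec (fun _ => ℕ → ℕ) (fun x => x) (fun _ ih x => frc (f x) (ih (f x))) k

/-- action of a word expression (or of its inverse) on a batch of row vectors -/
def act (mul : ℕ → ℕ → ℕ) (g iv : ℕ → ℕ) (e : WE) : Bool → ℕ → ℕ :=
  @WE.rec (fun _ => Bool → ℕ → ℕ)
    (fun c b X => mul X (g (cnd b (iv c) c)))
    (fun _ _ iha ihb b X => cnd b (frc (ihb true X) (iha true (ihb true X)))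
      (frc (iha false X) (ihb false (iha false X))))
    (fun _ ih b X => ih (cnd b false true) X)
    (fun _ k ih b X => iter (ih b) k X) e

/-- the same arithmetic for batches of `m` rows -/
def rows (c : PCtx) (m : ℕ) : PCtx := ⟨c.p, c.n, m, c.w, c.a, c.b, c.mu, c.s⟩

/-- row `i` of a packed matrix -/
def rowv (p n w X i : ℕ) : Fin n → ZMod p := fun j => ent (ZMod p) n w X i j

theorem rowv_eq_of_fld {p n w X Y i j : ℕ} (h : fld (w * n) X i = fld (w * n) Y j) :
    rowv p n w X i = rowv p n w Y j := by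
  funext k
  simp only [rowv, ent]
  rw [← fld_fld _ _ _ _ _ k.2, h, fld_fld _ _ _ _ _ k.2]

theorem fld_eq_of_rowv {p n w X Y i j : ℕ} (hw : 0 < w) (hX : ∀ t, fld w X t < p)
    (hY : ∀ t, fld w Y t < p) (h : rowv p n w X i = rowv p n w Y j) :
    fld (w * n) X i = fld (w * n) Y j := by
  apply ext_fld hw
  intro k
  by_cases hk : k < n
  · have h1 := congrFun h ⟨k, hk⟩
    simp only [rowv, ent] at h1
    rw [ZMod.natCast_eq_natCast_iff', Nat.mod_eq_of_lt (hX _), Nat.mod_eq_of_lt (hY _)] at h1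
    rw [fld_fld _ _ _ _ _ hk, fld_fld _ _ _ _ _ hk, h1]
  · rw [fld_fld_of_ge _ _ _ _ _ (by omega), fld_fld_of_ge _ _ _ _ _ (by omega)]

/-- rows `i0, …, i0 + m - 1` (`W` bits per row) -/
def blk (W X i0 m : ℕ) : ℕ := fld (Nat.mul W m) (Nat.shiftRight X (Nat.mul W i0)) 0

theorem fld_blk {W X i0 m i : ℕ} (hi : i < m) : fld W (blk W X i0 m) i = fld W X (i0 + i) := by
  have e : blk W X i0 m = fld (W * m) (X >>> (W * i0)) 0 := rfl
  rw [e, fld_fld _ _ _ _ _ hi, fld_shiftRight, mul_zero, zero_add]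

/-- A matrix representation with codes for the columns. -/
structure MRep (p n : ℕ) (G : Type*) [Group G] where
  w : ℕ
  a : ℕ
  b : ℕ
  mu : ℕ
  s : ℕ
  good : (PCtx.mk p n n w a b mu s).Good
  haw : a < w
  φ : G →* GL (Fin n) (ZMod p)
  γ : ℕ → G
  iv : ℕ → ℕ
  hiv : ∀ c, γ (iv c) = (γ c)⁻¹
  g : ℕ → ℕ
  hg : ∀ c, (PCtx.mk p n n w a b mu s).RP (g c) (φ (γ c) : Matrix (Fin n) (Fin n) (ZMod p))

/-- codes of invertible matrices -/
def RU (c : PCtx) (x : ℕ) (u : GL (Fin c.n) (ZMod c.p)) : Prop :=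
  c.RP x (u : Matrix (Fin c.n) (Fin c.n) (ZMod c.p))

theorem isRep_RU {c : PCtx} (h : c.Good) (hm : c.m = c.n) : IsRep c.mul (idCode c.n c.w) (RU c) :=
  (PCtx.isRep_RP h hm).units

/-- check of the codes of the columns -/
def colsOK (c : PCtx) (cs : List ℕ) (iv : ℕ → ℕ) (k : ℕ) : Bool :=
  band (c.okb (getD' cs (idCode c.n c.w) k))
    (Nat.beq (c.mul (getD' cs (idCode c.n c.w) k) (getD' cs (idCode c.n c.w) (iv k))) (idCode c.n c.w))

/-- invertible matrices for a list of codes closed under inversion -/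
theorem exists_cols {c : PCtx} (h : c.Good) (hm : c.m = c.n) {cs : List ℕ} {IV : ℕ}
    (hc : ∀ k < cs.length, colsOK c cs (ivT IV cs.length) k = true) :
    ∃ μ : ℕ → GL (Fin c.n) (ZMod c.p), (∀ k, RU c (getD' cs (idCode c.n c.w) k) (μ k)) ∧
      (∀ k, μ (ivT IV cs.length k) = (μ k)⁻¹) ∧ ∀ k, cs.length ≤ k → μ k = 1 := by
  have hR := PCtx.isRep_RP h hm
  have hge : ∀ k, cs.length ≤ k → getD' cs (idCode c.n c.w) k = idCode c.n c.w := fun k hk => by
    rw [getD'_eq, List.getD_eq_default _ _ hk]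
  have hA : ∀ k, ∃ A, c.RP (getD' cs (idCode c.n c.w) k) A := by
    intro k
    rcases lt_or_ge k cs.length with hk | hk
    · have h1 := hc k hk
      rw [colsOK, band_eq_true] at h1
      exact ⟨_, PCtx.RP_of_okb h h1.1⟩
    · rw [hge k hk]; exact ⟨1, hR.one⟩
  choose A hA using hA
  have hI : ∀ k, A k * A (ivT IV cs.length k) = 1 := by
    intro k
    rcases lt_or_ge k cs.length with hk | hk
    · have h1 := hc k hk
      rw [colsOK, band_eq_true] at h1
      exact hR.eq_one (hR.mul (hA k) (hA _)) h1.2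
    · have e : ivT IV cs.length k = k := by simp [ivT, cnd_eq_ite, hk]
      have h1 := hA k
      rw [hge k hk] at h1
      rw [e, hR.uniq h1 hR.one, mul_one]
  refine ⟨fun k => ⟨A k, A (ivT IV cs.length k), hI k, mul_eq_one_comm.1 (hI k)⟩, hA, fun k => ?_,
    fun k hk => ?_⟩
  · ext1; rfl
  · have h1 := hA k
    rw [hge k hk] at h1
    ext1; exact hR.uniq h1 hR.one

/-- all the word expressions evaluate to the identity matrix -/
def relsOK (c : PCtx) (g iv : ℕ → ℕ) (l : List WE) : Bool :=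
  allL l fun e => Nat.beq (evM c g iv e) (idCode c.n c.w)

theorem RU_evM {c : PCtx} (h : c.Good) (hm : c.m = c.n) {g iv : ℕ → ℕ}
    {μ : ℕ → GL (Fin c.n) (ZMod c.p)} (hg : ∀ k, RU c (g k) (μ k)) (hiv : ∀ k, μ (iv k) = (μ k)⁻¹)
    (e : WE) : RU c (evM c g iv e) (e.eval μ) := by
  rw [← eval_toTm]
  exact (isRep_RU h hm).evalC hg (fun k => hiv k ▸ hg (iv k)) _

theorem relsOK_spec {c : PCtx} (h : c.Good) (hm : c.m = c.n) {g iv : ℕ → ℕ}
    {μ : ℕ → GL (Fin c.n) (ZMod c.p)} (hg : ∀ k, RU c (g k) (μ k)) (hiv : ∀ k, μ (iv k) = (μ k)⁻¹)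
    {l : List WE} (hl : relsOK c g iv l = true) : ∀ e ∈ l, e.eval μ = 1 := fun e he =>
  (isRep_RU h hm).eq_one (RU_evM h hm hg hiv e) (allL_spec hl e he)

/-- a range of checks -/
def rangeOK (f : ℕ → Bool) (k m : ℕ) : Bool := allLt m fun i => f (Nat.add k i)

theorem range_cons {f : ℕ → Bool} {k m k' N : ℕ} (h : rangeOK f k m = true) (hk : k + m = k')
    (ht : ∀ i, k' ≤ i → i < N → f i = true) : ∀ i, k ≤ i → i < N → f i = true := by
  intro i h1 h2
  rcases le_or_gt k' i with h3 | h3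
  · exact ht i h3 h2
  · obtain ⟨d, rfl⟩ := Nat.exists_eq_add_of_le h1
    exact allLt_spec h d (by omega)

theorem range_end {f : ℕ → Bool} {N : ℕ} : ∀ i, N ≤ i → i < N → f i = true := fun _ h1 h2 => by omega

theorem range_start {f : ℕ → Bool} {N : ℕ} (h : ∀ i, 0 ≤ i → i < N → f i = true) :
    ∀ i < N, f i = true := fun i hi => h i (Nat.zero_le _) hi

section cox
open Cfsg.Spor
variable {α : Type} [DecidableEq α] {edges : List (α × ℕ × α)} {extra : List (FreeGroup α)}
  {cl : List (α × Bool)} {idx : α → ℕ} {IV : ℕ} {prs : List (ℕ × ℕ × ℕ)} {ex : List WE}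

theorem exists_hom_of_codes (hd : CoxData edges extra cl idx IV prs ex) (hp : prs = []) {c : PCtx}
    (h : c.Good)
    (hm : c.m = c.n) {cs : List ℕ} (hl : cs.length = cl.length)
    (hc : ∀ k < cs.length, colsOK c cs (ivT IV cs.length) k = true)
    (hr : ∀ e ∈ ex, Nat.beq (evM c (getD' cs (idCode c.n c.w)) (ivT IV cs.length) e)
      (idCode c.n c.w) = true) :
    ∃ φ : CoxPresented α edges extra →* GL (Fin c.n) (ZMod c.p),
      ∀ k, RU c (getD' cs (idCode c.n c.w) k) (φ (coxγ edges extra cl k)) := by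
  obtain ⟨μ, h1, h2, h3⟩ := exists_cols h hm hc
  obtain ⟨φ, hφ⟩ := hd.exists_hom μ (hl ▸ h2) (hl ▸ h3) (baseRels_of (hl ▸ h2) (by simp [hp])
    fun e he => (isRep_RU h hm).eq_one (RU_evM h hm h1 h2 e) (hr e he))
  exact ⟨φ, fun k => hφ k ▸ h1 k⟩

/-- the representation of a presented group given by codes satisfying the relators -/
def coxRep (hd : CoxData edges extra cl idx IV prs ex) (hp : prs = []) {p n w a b mu s : ℕ}
    (h : (PCtx.mk p n n w a b mu s).Good) (haw : a < w) (cs : List ℕ) (hl : cs.length = cl.length)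
    (hc : ∀ k < cs.length, colsOK (PCtx.mk p n n w a b mu s) cs (ivT IV cs.length) k = true)
    (hr : ∀ e ∈ ex, Nat.beq (evM (PCtx.mk p n n w a b mu s) (getD' cs (idCode n w))
      (ivT IV cs.length) e) (idCode n w) = true) : MRep p n (CoxPresented α edges extra) where
  w := w
  a := a
  b := b
  mu := mu
  s := s
  good := h
  haw := haw
  φ := (exists_hom_of_codes hd hp h rfl hl hc hr).choose
  γ := coxγ edges extra cl
  iv := ivT IV cl.length
  hiv := hd.ivG
  g := getD' cs (idCode n w)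
  hg := (exists_hom_of_codes hd hp h rfl hl hc hr).choose_spec

end cox

namespace MRep
variable {p n : ℕ} {G : Type*} [Group G] (M : MRep p n G)

/-- the arithmetic for batches of `m` rows -/
def cx (m : ℕ) : PCtx := ⟨p, n, m, M.w, M.a, M.b, M.mu, M.s⟩

theorem good_cx (m : ℕ) : (M.cx m).Good := M.good

/-- the matrix of an element -/
def mat (x : G) : Matrix (Fin n) (Fin n) (ZMod p) := M.φ x

theorem mat_mul (x y : G) : M.mat (x * y) = M.mat x * M.mat y := by simp [mat]
theorem mat_one : M.mat 1 = 1 := by simp [mat]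

/-- identity code -/
def one : ℕ := idCode n M.w

/-- the code of the matrix of a word expression -/
def ev (e : WE) : ℕ := evM (M.cx n) M.g M.iv e

theorem RU_ev (e : WE) : RU (M.cx n) (M.ev e) (M.φ (e.eval M.γ)) := by
  rw [WE.map_eval]
  exact RU_evM (c := M.cx n) M.good rfl M.hg (fun k => by rw [M.hiv]; exact map_inv M.φ _) e

theorem φ_eq_one {e : WE} (h : Nat.beq (M.ev e) M.one = true) : M.φ (e.eval M.γ) = 1 :=
  (isRep_RU (c := M.cx n) M.good rfl).eq_one (M.RU_ev e) h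

theorem φ_eq {e f : WE} (h : Nat.beq (M.ev e) (M.ev f) = true) :
    M.φ (e.eval M.γ) = M.φ (f.eval M.γ) :=
  (isRep_RU (c := M.cx n) M.good rfl).eq_of_beq (M.RU_ev e) (M.RU_ev f) h

/-- action on a batch of `m` rows -/
def ac (m : ℕ) (e : WE) (b : Bool) (X : ℕ) : ℕ := act (M.cx m).mul M.g M.iv e b X

/-- the matrix with `m` rows coded by `X` -/
def tm (m X : ℕ) : Matrix (Fin m) (Fin n) (ZMod p) := toMat (ZMod p) m n M.w X

theorem mul_spec (m : ℕ) {X Y : ℕ} {x : G} (hX : (M.cx n).Ok X)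
    (hY : (M.cx n).RP Y (M.mat x)) :
    (M.cx n).Ok ((M.cx m).mul X Y) ∧ M.tm m ((M.cx m).mul X Y) = M.tm m X * M.mat x := by
  refine ⟨PCtx.ok_mul (M.good_cx m) _ _, ?_⟩
  have h := PCtx.toMat_mul (M.good_cx m) (A := X) (B := Y) hX hY.1
  have h2 : toMat (ZMod p) n n M.w Y = M.mat x := hY.2
  rw [← h2]; exact h

theorem iter_spec (m : ℕ) {f : ℕ → ℕ} {x : G}
    (hf : ∀ X, (M.cx n).Ok X → (M.cx n).Ok (f X) ∧ M.tm m (f X) = M.tm m X * M.mat x) (k : ℕ) :
    ∀ X, (M.cx n).Ok X → (M.cx n).Ok (iter f k X) ∧ M.tm m (iter f k X) = M.tm m X * M.mat (x ^ k) := by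
  induction k with
  | zero => intro X hX; exact ⟨hX, by rw [pow_zero, mat_one, Matrix.mul_one]; rfl⟩
  | succ k ih =>
    intro X hX
    have e : iter f (k + 1) X = iter f k (f X) := frc_eq _ _
    rw [e]
    refine ⟨(ih _ (hf X hX).1).1, ?_⟩
    rw [(ih _ (hf X hX).1).2, (hf X hX).2, pow_succ', mat_mul, Matrix.mul_assoc]

theorem ac_spec (m : ℕ) (e : WE) :
    (∀ X, (M.cx n).Ok X → (M.cx n).Ok (M.ac m e false X) ∧
      M.tm m (M.ac m e false X) = M.tm m X * M.mat (e.eval M.γ)) ∧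
    (∀ X, (M.cx n).Ok X → (M.cx n).Ok (M.ac m e true X) ∧
      M.tm m (M.ac m e true X) = M.tm m X * M.mat (e.eval M.γ)⁻¹) := by
  induction e with
  | g c =>
    refine ⟨fun X hX => M.mul_spec m hX (M.hg c), fun X hX => ?_⟩
    have h := M.mul_spec m hX (M.hg (M.iv c))
    rwa [M.hiv] at h
  | mul a b iha ihb =>
    constructor
    · intro X hX
      have e : M.ac m (.mul a b) false X = M.ac m b false (M.ac m a false X) := frc_eq _ _
      rw [e]
      refine ⟨(ihb.1 _ (iha.1 X hX).1).1, ?_⟩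
      rw [(ihb.1 _ (iha.1 X hX).1).2, (iha.1 X hX).2, WE.eval, mat_mul, Matrix.mul_assoc]
    · intro X hX
      have e : M.ac m (.mul a b) true X = M.ac m a true (M.ac m b true X) := frc_eq _ _
      rw [e]
      refine ⟨(iha.2 _ (ihb.2 X hX).1).1, ?_⟩
      rw [(iha.2 _ (ihb.2 X hX).1).2, (ihb.2 X hX).2, WE.eval, _root_.mul_inv_rev, mat_mul,
        Matrix.mul_assoc]
  | inv a ih => exact ⟨ih.2, by rw [WE.eval, inv_inv]; exact ih.1⟩
  | pow a k ih =>
    exact ⟨M.iter_spec m ih.1 k, by rw [WE.eval, ← inv_pow]; exact M.iter_spec m ih.2 k⟩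

/-- row `i` of the code `X` -/
def row (X i : ℕ) : Fin n → ZMod p := rowv p n M.w X i

/-- bits per row -/
def W : ℕ := Nat.mul M.w n

theorem row_ac {m : ℕ} (e : WE) {X : ℕ} (hX : (M.cx m).okb X = true) {i : ℕ} (hi : i < m) :
    M.row (M.ac m e false X) i = M.row X i ᵥ* M.mat (e.eval M.γ) :=
  congrFun ((M.ac_spec m e).1 X (PCtx.ok_of_okb (M.good_cx m) hX)).2 ⟨i, hi⟩

theorem row_ac_inv {m : ℕ} (e : WE) {X : ℕ} (hX : (M.cx m).okb X = true) {i : ℕ} (hi : i < m) :
    M.row (M.ac m e true X) i = M.row X i ᵥ* M.mat (e.eval M.γ)⁻¹ :=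
  congrFun ((M.ac_spec m e).2 X (PCtx.ok_of_okb (M.good_cx m) hX)).2 ⟨i, hi⟩

/-- the stabiliser of a row vector -/
def vstab (v : Fin n → ZMod p) : Subgroup G where
  carrier := {x | v ᵥ* M.mat x = v}
  one_mem' := by simp [mat_one]
  mul_mem' := by
    intro x y hx hy
    simp only [Set.mem_ofPred_eq] at *
    rw [mat_mul, ← Matrix.vecMul_vecMul, hx, hy]
  inv_mem' := by
    intro x hx
    simp only [Set.mem_ofPred_eq] at *
    conv_lhs => rw [← hx]
    rw [Matrix.vecMul_vecMul, ← mat_mul, mul_inv_cancel, mat_one, Matrix.vecMul_one]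

theorem mem_vstab {v : Fin n → ZMod p} {x : G} : x ∈ M.vstab v ↔ v ᵥ* M.mat x = v := Iff.rfl

theorem ker_le_vstab (v : Fin n → ZMod p) : M.φ.ker ≤ M.vstab v := by
  intro x hx
  rw [mem_vstab, mat, (MonoidHom.mem_ker.1 hx)]; simp

/-- the word fixes the vector `v` -/
def fixV (e : WE) (v : ℕ) : Bool := band ((M.cx 1).okb v) (Nat.beq (M.ac 1 e false v) v)

/-- the word moves the vector `v` -/
def movV (e : WE) (v : ℕ) : Bool :=
  band ((M.cx 1).canonb v) (band ((M.cx 1).canonb (M.ac 1 e false v))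
    (cnd (Nat.beq (M.ac 1 e false v) v) false true))

theorem mem_vstab_of_fixV {e : WE} {v : ℕ} (h : M.fixV e v = true) :
    e.eval M.γ ∈ M.vstab (M.row v 0) := by
  rw [fixV, band_eq_true, beq_iff] at h
  rw [mem_vstab, ← M.row_ac e h.1 one_pos, h.2]

theorem not_mem_vstab_of_movV {e : WE} {v : ℕ} (h : M.movV e v = true) :
    e.eval M.γ ∉ M.vstab (M.row v 0) := by
  simp only [movV, band_eq_true, cnd_eq_ite] at h
  obtain ⟨h1, h2, h3⟩ := h
  intro hx
  rw [mem_vstab, ← M.row_ac e (PCtx.okb_of_canonb h1) one_pos] at hx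
  have h4 : M.ac 1 e false v = v := by
    apply PCtx.eq_of_canonb (M.good_cx 1) M.haw h2 h1
    ext i j
    obtain rfl : i = ⟨0, one_pos⟩ := Subsingleton.elim (α := Fin 1) _ _
    exact congrFun hx j
  rw [h4] at h3
  simp at h3

theorem φ_ne_one_of_movV {e : WE} {v : ℕ} (h : M.movV e v = true) : M.φ (e.eval M.γ) ≠ 1 :=
  fun h1 => M.not_mem_vstab_of_movV h (M.ker_le_vstab _ h1)

theorem ne_one_of_movV {e : WE} {v : ℕ} (h : M.movV e v = true) : e.eval M.γ ≠ 1 :=
  fun h1 => M.φ_ne_one_of_movV h (by rw [h1, map_one])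

end MRep

theorem dvd_orderOf_of_pow_mem {G : Type*} [Group G] {H : Subgroup G} {x : G} {r k : ℕ}
    (hr : r.Prime) (h1 : x ^ r ^ (k + 1) ∈ H) (h2 : x ^ r ^ k ∉ H) : r ^ (k + 1) ∣ orderOf x := by
  by_contra hn
  apply h2
  have h3 : x ^ Nat.gcd (r ^ (k + 1)) (orderOf x) ∈ H := by
    have h4 : x ^ ((Nat.gcd (r ^ (k + 1)) (orderOf x) : ℕ) : ℤ) ∈ H := by
      rw [Nat.gcd_eq_gcd_ab, _root_.zpow_add, _root_.zpow_mul, _root_.zpow_mul, zpow_natCast,
        zpow_natCast, pow_orderOf_eq_one, _root_.one_zpow, mul_one]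
      exact H.zpow_mem h1 _
    rwa [zpow_natCast] at h4
  obtain ⟨j, hj, e⟩ := (Nat.dvd_prime_pow hr).1 (Nat.gcd_dvd_left (r ^ (k + 1)) (orderOf x))
  rw [e] at h3
  have hj' : j ≤ k := by
    by_contra h5
    obtain rfl : j = k + 1 := by omega
    exact hn (e ▸ Nat.gcd_dvd_right _ _)
  obtain ⟨d, rfl⟩ := Nat.exists_eq_add_of_le hj'
  rw [pow_add, pow_mul]
  exact H.pow_mem h3 _

/-- a prime `r` divides the order of the group if some vector has an orbit of length `r` under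
some element -/
theorem MRep.prime_dvd_card {p n : ℕ} {G : Type*} [Group G] (M : MRep p n G) {r : ℕ} (hr : r.Prime)
    {e : WE} {v : ℕ} (h : band (M.fixV (.pow e r) v) (M.movV e v) = true) : r ∣ Nat.card G := by
  rw [band_eq_true] at h
  have h1 := dvd_orderOf_of_pow_mem (H := M.vstab (M.row v 0)) (x := e.eval M.γ) (k := 0) hr
    (by simpa [WE.eval] using M.mem_vstab_of_fixV h.1) (by simpa using M.not_mem_vstab_of_movV h.2)
  exact (by simpa using h1 : r ∣ orderOf (e.eval M.γ)).trans (orderOf_dvd_natCard _)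

end

end CL.SpM
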