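import Cfsg.Agent.SpM.Vec
import Cfsg.Agent.Alt.Carmichael

/-!
New columns for a matrix representation; assembling vector representations; recognition of
alternating groups from Carmichael generators.
-/

set_option autoImplicit false

namespace CL.SpM

open CL.CGM CL.CGT Matrix

noncomputable section

namespace MRep
variable {p n : ℕ} {G : Type*} [Group G] {M : MRep p n G}

/-- rows `i ≥ i0` of the code `x` are those of the matrix of `e` -/
def RowsFrom (M : MRep p n G) (e : WE) (x i0 : ℕ) : Prop :=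
  ∀ i, i0 ≤ i → i < n → M.row x i = M.row M.one i ᵥ* M.mat (e.eval M.γ)

/-- check for a block of rows -/
def rowsOK (M : MRep p n G) (e : WE) (x i0 m : ℕ) : Bool :=
  band ((M.cx m).okb (blk M.W M.one i0 m))
    (Nat.beq (M.ac m e false (blk M.W M.one i0 m)) (blk M.W x i0 m))

theorem RowsFrom.last {e : WE} {x i0 : ℕ} (h : n ≤ i0) : M.RowsFrom e x i0 :=
  fun _ h1 h2 => by omega

theorem RowsFrom.step {e : WE} {x i0 m i1 : ℕ} (h : M.rowsOK e x i0 m = true) (hi : i0 + m = i1)
    (ht : M.RowsFrom e x i1) : M.RowsFrom e x i0 := by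
  intro i h1 h2
  rcases le_or_gt i1 i with h3 | h3
  · exact ht i h3 h2
  obtain ⟨d, rfl⟩ := Nat.exists_eq_add_of_le h1
  rw [rowsOK, band_eq_true, beq_iff] at h
  have hd : d < m := by omega
  have h5 := M.row_ac e h.1 hd
  have h6 : ∀ y, M.row (blk M.W y i0 m) d = M.row y (i0 + d) := fun y => rowv_eq_of_fld (fld_blk hd)
  rwa [h.2, h6, h6] at h5

/-- `x` is a code of the matrix of `g` -/
def Cd (M : MRep p n G) (x : ℕ) (g : G) : Prop := RU (M.cx n) x (M.φ g)

theorem isRep_Cd (M : MRep p n G) :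
    IsRep (M.cx n).mul M.one (fun x (u : GL (Fin n) (ZMod p)) => RU (M.cx n) x u) :=
  isRep_RU (c := M.cx n) M.good rfl

theorem cd_one : M.Cd M.one 1 := by
  rw [Cd, map_one]; exact M.isRep_Cd.one

theorem cd_ev (e : WE) : M.Cd (M.ev e) (e.eval M.γ) := M.RU_ev e

theorem cd_of_beq {e : WE} {x : ℕ} (h : Nat.beq (M.ev e) x = true) : M.Cd x (e.eval M.γ) :=
  beq_iff.1 h ▸ cd_ev e

theorem RowsFrom.cd {e : WE} {x : ℕ} (h : M.RowsFrom e x 0) (hx : (M.cx n).okb x = true) :
    M.Cd x (e.eval M.γ) := by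
  refine ⟨PCtx.ok_of_okb (M.good_cx n) hx, ?_⟩
  have h1 : toMat (ZMod p) n n M.w M.one = 1 := toMat_idCode _ M.good.1
  show toMat (ZMod p) n n M.w x = M.mat (e.eval M.γ)
  rw [← Matrix.one_mul (M.mat _), ← h1]
  funext i
  exact h i (Nat.zero_le _) i.2

theorem RowsFrom.φ_eq_one {e : WE} (h : M.RowsFrom e M.one 0) : M.φ (e.eval M.γ) = 1 := by
  have h1 : toMat (ZMod p) n n M.w M.one = 1 := toMat_idCode _ M.good.1
  have h2 : toMat (ZMod p) n n M.w M.one = M.mat (e.eval M.γ) := by
    rw [← Matrix.one_mul (M.mat _), ← h1]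
    funext i
    exact h i (Nat.zero_le _) i.2
  ext1
  exact h2.symm.trans h1

/-- `y` is the code of the inverse of the matrix coded by `x` -/
def invOKb (M : MRep p n G) (x y : ℕ) : Bool :=
  band ((M.cx n).okb y) (Nat.beq ((M.cx n).mul x y) M.one)

theorem Cd.inv {x y : ℕ} {g : G} (h : M.Cd x g) (hy : M.invOKb x y = true) : M.Cd y g⁻¹ := by
  rw [invOKb, band_eq_true] at hy
  have hR := PCtx.isRep_RP (c := M.cx n) M.good rfl
  have h1 := PCtx.RP_of_okb (M.good_cx n) hy.1
  have h2 := hR.eq_one (hR.mul h h1) hy.2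
  have h3 : toMat (ZMod p) n n M.w y = M.mat g⁻¹ := by
    have h4 : M.mat g * toMat (ZMod p) n n M.w y = 1 := h2
    rw [← Matrix.one_mul (toMat _ _ _ _ _), ← mat_one M, ← inv_mul_cancel g, mat_mul,
      Matrix.mul_assoc, h4, Matrix.mul_one]
  exact ⟨h1.1, h3⟩

/-- columns `2 k`, `2 k + 1` are the `k`-th word and its inverse -/
def pairγ (γ : ℕ → G) (es : List WE) (c : ℕ) : G :=
  if c % 2 = 0 then colE γ es (c / 2) else (colE γ es (c / 2))⁻¹

/-- the codes belonging to a list of words -/
inductive Codes (M : MRep p n G) : List WE → List ℕ → Prop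
  | nil : Codes M [] []
  | cons {e : WE} {x y : ℕ} {es : List WE} {cs : List ℕ} (h : M.Cd x (e.eval M.γ))
      (hy : M.invOKb x y = true) (ht : Codes M es cs) : Codes M (e :: es) (x :: y :: cs)

theorem Codes.cd {es : List WE} {cs : List ℕ} (h : M.Codes es cs) (c : ℕ) :
    M.Cd (getD' cs M.one c) (pairγ M.γ es c) := by
  induction h generalizing c with
  | nil =>
    have : pairγ M.γ [] c = 1 := by
      rw [pairγ, colE_of_le (Nat.zero_le _)]; simp
    rw [this]; exact cd_one
  | @cons e x y es cs h hy ht ih =>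
    match c with
    | 0 => exact h
    | 1 => exact h.inv hy
    | c + 2 =>
      have e1 : pairγ M.γ (e :: es) (c + 2) = pairγ M.γ es c := by
        simp only [pairγ, Nat.add_mod_right, Nat.add_div_right _ two_pos]
        rfl
      rw [e1]; exact ih c

theorem pairγ_xor (γ : ℕ → G) (es : List WE) (c : ℕ) :
    pairγ γ es (Nat.xor c 1) = (pairγ γ es c)⁻¹ := by
  have e : Nat.xor c 1 = c ^^^ 1 := rfl
  rw [e, pairγ, pairγ]
  rcases Nat.even_or_odd c with h | h
  · rw [Nat.xor_one_of_even h]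
    obtain ⟨k, rfl⟩ := h
    rw [if_neg (by omega), if_pos (by omega), show (k + k + 1) / 2 = (k + k) / 2 by omega]
  · rw [Nat.xor_one_of_odd h]
    obtain ⟨k, rfl⟩ := h
    rw [if_pos (by omega), if_neg (by omega), show (2 * k + 1 - 1) / 2 = (2 * k + 1) / 2 by omega,
      inv_inv]

/-- the same representation with new columns -/
def derive (M : MRep p n G) (es : List WE) (cs : List ℕ) (h : M.Codes es cs) : MRep p n G where
  w := M.w
  a := M.a
  b := M.b
  mu := M.mu
  s := M.s
  good := M.good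
  haw := M.haw
  φ := M.φ
  γ := pairγ M.γ es
  iv := fun c => Nat.xor c 1
  hiv := pairγ_xor M.γ es
  g := getD' cs M.one
  hg := h.cd

variable {X B : ℕ}

theorem ind_of_forall₂ {es : List WE} {ns : List Net} {B' : ℕ} (hok : netsOK B' ns = true)
    (hf : fixAbove ns B B' = true) (h : List.Forall₂ (fun e nt => M.From X B e nt 0) es ns) (c : ℕ) :
    M.Ind X B (colE M.γ es c) (pm ns c) := by
  refine ind_colE hok hf h.length_eq.symm (fun c hc => ?_) c
  have hc' : c < ns.length := h.length_eq ▸ hc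
  rw [net, getD'_eq, getD'_eq, List.getD_eq_getElem _ _ hc, List.getD_eq_getElem _ _ hc']
  exact List.Forall₂.get h hc hc'

theorem chain_dvd_card_G {ρ : Rep (M.setStab X B)} {k e : ℕ} {c : Chain}
    (h : chainExact ρ.ns k e c = true) : c.prod ∣ Nat.card G :=
  (chain_prod_dvd_card ρ h).trans (Subgroup.card_subgroup_dvd_card _)

theorem chain_mul_dvd_card_G {ρ : Rep (M.setStab X B)} {k e : ℕ} {c : Chain}
    (h : chainExact ρ.ns k e c = true) {j r : ℕ} (hj : net ρ.ns j = Net.nil)
    (hr : r ∣ orderOf (ρ.γ j : G)) : c.prod * r ∣ Nat.card G := by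
  have h1 := chain_dvd_card ρ h (Z := Subgroup.zpowers (ρ.γ j)) (by
    rw [Subgroup.zpowers_le, MonoidHom.mem_ker, ρ.compat, pm, hj, Net.perm_nil])
  rw [Nat.card_zpowers, ← Subgroup.orderOf_coe] at h1
  exact ((Nat.mul_dvd_mul_left _ hr).trans h1).trans (Subgroup.card_subgroup_dvd_card _)

theorem prime_dvd_orderOf {r : ℕ} (hr : r.Prime) {e : WE} {v : ℕ}
    (h : band (M.fixV (.pow e r) v) (M.movV e v) = true) : r ∣ orderOf (e.eval M.γ) := by
  rw [band_eq_true] at h
  simpa using dvd_orderOf_of_pow_mem (H := M.vstab (M.row v 0)) (x := e.eval M.γ) (k := 0) hr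
    (by simpa [WE.eval] using M.mem_vstab_of_fixV h.1) (by simpa using M.not_mem_vstab_of_movV h.2)

end MRep

/-! ### Carmichael generators -/

open CL.Alt in
/-- Elements satisfying Carmichael's relations define a homomorphism from the alternating group. -/
theorem exists_hom_of_carmichael {H α : Type*} [Group H] [DecidableEq α] [Fintype α] {p q : α}
    (hpq : p ≠ q) (y : α → H) (h3 : ∀ i ∈ rest p q, y i ^ 3 = 1)
    (h2 : ∀ i ∈ rest p q, ∀ j ∈ rest p q, i ≠ j → (y i * y j) ^ 2 = 1) :
    ∃ f : alternatingGroup α →* H, f.range = Subgroup.closure (y '' rest p q) ∧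
      ∀ i ∈ rest p q, ∃ x, f x = y i := by
  classical
  let x : α → alternatingGroup α := fun i =>
    if h : p ≠ i then ⟨cyc p q i, cyc_mem hpq h⟩ else 1
  have hx : ∀ i ∈ rest p q, (x i : Equiv.Perm α) = cyc p q i := fun i hi => by
    simp only [x, dif_pos (mem_rest.1 hi).1]
  let w : α → H × alternatingGroup α := fun i => (y i, x i)
  let D := Subgroup.closure (w '' rest p q)
  obtain ⟨T, hT, hc⟩ := carmichael_bound w (rest p q)
    (fun i hi => Prod.ext (h3 i hi) (Subtype.ext (by
      have := mem_rest.1 hi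
      simpa [w, hx i hi] using cyc_pow_three hpq this.1 this.2)))
    (fun i hi j hj hij => Prod.ext (h2 i hi j hj hij) (Subtype.ext (by
      have h4 := mem_rest.1 hi
      have h5 := mem_rest.1 hj
      simpa [w, hx i hi, hx j hj] using cyc_mul_cyc_sq hpq h4.1 h4.2 h5.1 h5.2 hij)))
  have hfin : Finite D := (T.finite_toSet.subset hT).to_subtype
  have hle : Nat.card D ≤ Nat.card (alternatingGroup α) := by
    have h4 : Nat.card D ≤ T.card := by
      rw [← Set.ncard_coe_finset]
      exact Set.ncard_le_ncard hT T.finite_toSet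
    have h5 := two_mul_card_alt hpq
    omega
  let π : D →* alternatingGroup α := (MonoidHom.snd _ _).comp D.subtype
  have hs : Function.Surjective π := by
    rw [← MonoidHom.range_eq_top, MonoidHom.range_comp, Subgroup.range_subtype,
      MonoidHom.map_closure, Set.image_image]
    exact closure_eq_top_of_coe_eq_cyc hpq x hx
  have hb : Function.Bijective π := (Nat.bijective_iff_surjective_and_card π).2
    ⟨hs, le_antisymm hle (Nat.card_le_card_of_surjective π hs)⟩
  let e := MulEquiv.ofBijective π hb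
  refine ⟨((MonoidHom.fst _ _).comp D.subtype).comp e.symm.toMonoidHom, ?_, fun i hi => ?_⟩
  · rw [MonoidHom.range_comp, MonoidHom.range_eq_top.2 e.symm.surjective, ← MonoidHom.range_eq_map,
      MonoidHom.range_comp, Subgroup.range_subtype, MonoidHom.map_closure, Set.image_image]
    rfl
  · exact ⟨e ⟨w i, Subgroup.subset_closure ⟨i, hi, rfl⟩⟩, by simp [w]⟩

open CL.Alt in
theorem nonempty_equiv_of_carmichael {H α : Type*} [Group H] [DecidableEq α] [Fintype α]
    (h5 : 5 ≤ Nat.card α) {p q : α} (hpq : p ≠ q) (y : α → H) (h3 : ∀ i ∈ rest p q, y i ^ 3 = 1)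
    (h2 : ∀ i ∈ rest p q, ∀ j ∈ rest p q, i ≠ j → (y i * y j) ^ 2 = 1)
    (hne : ∃ i ∈ rest p q, y i ≠ 1) :
    Nonempty (Subgroup.closure (y '' rest p q) ≃* alternatingGroup α) := by
  obtain ⟨f, hf, hy⟩ := exists_hom_of_carmichael hpq y h3 h2
  have := alternatingGroup.isSimpleGroup h5
  have hinj : Function.Injective f := by
    rw [← MonoidHom.ker_eq_bot_iff]
    refine (IsSimpleGroup.eq_bot_or_eq_top_of_normal f.ker inferInstance).resolve_right fun h => ?_
    obtain ⟨i, hi, hne⟩ := hne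
    obtain ⟨x, hx⟩ := hy i hi
    exact hne (hx ▸ MonoidHom.mem_ker.1 (h ▸ Subgroup.mem_top x))
  exact ⟨((MonoidHom.ofInjective hinj).trans (MulEquiv.subgroupCongr hf)).symm⟩

end

end CL.SpM
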