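import Cfsg.Agent.SpM.Basic

/-!
The permutation representation, on a list of row vectors, of the subgroup permuting them;
stabiliser chains with exact orbits (divisibility of the group order).
-/

set_option autoImplicit false

namespace CL.SpM

open CL.CGM CL.CGT Matrix

noncomputable section

/-- `f i` for all `i < k * m` (two nested loops) -/
def allLt2 (k m : ℕ) (f : ℕ → Bool) : Bool :=
  allLt k fun j => allLt m fun i => f (Nat.add (Nat.mul j m) i)

theorem allLt2_spec {k m : ℕ} {f : ℕ → Bool} (h : allLt2 k m f = true) : ∀ i < k * m, f i = true := by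
  intro i hi
  have hm : 0 < m := Nat.pos_of_ne_zero (by rintro rfl; simp at hi)
  have h1 := allLt_spec (allLt_spec h (i / m) (by rwa [Nat.div_lt_iff_lt_mul hm])) (i % m)
    (Nat.mod_lt _ hm)
  rwa [Nat.add_eq, Nat.mul_eq, Nat.div_add_mod' i m] at h1

namespace MRep
variable {p n : ℕ} {G : Type*} [Group G] (M : MRep p n G)

/-- `π` is the permutation of the first `B` rows of `X` induced by `x` -/
def Ind (X B : ℕ) (x : G) (π : Equiv.Perm ℕ) : Prop :=
  (∀ i, B ≤ i → π i = i) ∧ ∀ i < B, M.row X i ᵥ* M.mat x⁻¹ = M.row X (π i)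

variable {M} {X B : ℕ}

theorem Ind.lt {x : G} {π : Equiv.Perm ℕ} (h : M.Ind X B x π) {i : ℕ} (hi : i < B) : π i < B := by
  by_contra h1
  have h2 := π.injective (h.1 _ (not_lt.1 h1))
  omega

theorem Ind.one : M.Ind X B 1 1 :=
  ⟨fun _ _ => rfl, fun i _ => by rw [inv_one, mat_one, Matrix.vecMul_one]; rfl⟩

theorem Ind.mul {x y : G} {π σ : Equiv.Perm ℕ} (hx : M.Ind X B x π) (hy : M.Ind X B y σ) :
    M.Ind X B (x * y) (π * σ) := by
  refine ⟨fun i hi => by rw [Equiv.Perm.mul_apply, hy.1 i hi, hx.1 i hi], fun i hi => ?_⟩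
  rw [_root_.mul_inv_rev, mat_mul, ← Matrix.vecMul_vecMul, hy.2 i hi, hx.2 _ (hy.lt hi)]; rfl

theorem Ind.inv {x : G} {π : Equiv.Perm ℕ} (hx : M.Ind X B x π) : M.Ind X B x⁻¹ π⁻¹ := by
  have h1 : ∀ i, B ≤ i → π⁻¹ i = i := fun i hi => by
    rw [Equiv.Perm.inv_eq_iff_eq, hx.1 i hi]
  refine ⟨h1, fun i hi => ?_⟩
  have h2 : π⁻¹ i < B := by
    by_contra h3
    have h4 := hx.1 _ (not_lt.1 h3)
    simp only [Equiv.Perm.coe_inv, Equiv.apply_symm_apply] at h4
    simp only [Equiv.Perm.coe_inv] at h3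
    omega
  have h3 := hx.2 _ h2
  simp only [Equiv.Perm.coe_inv, Equiv.apply_symm_apply] at h3
  rw [← h3, Matrix.vecMul_vecMul, ← mat_mul, inv_inv, inv_mul_cancel, mat_one, Matrix.vecMul_one]
  rfl

variable (M X B) in
/-- the subgroup permuting the first `B` rows of `X` -/
def setStab : Subgroup G where
  carrier := {x | ∃ π, M.Ind X B x π}
  one_mem' := ⟨1, Ind.one⟩
  mul_mem' := fun ⟨_, h1⟩ ⟨_, h2⟩ => ⟨_, h1.mul h2⟩
  inv_mem' := fun ⟨_, h1⟩ => ⟨_, h1.inv⟩

variable (M X B) in
/-- the rows are pairwise distinct -/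
def Dist : Prop := ∀ i < B, ∀ j < B, M.row X i = M.row X j → i = j

theorem Ind.uniq (hd : M.Dist X B) {x : G} {π σ : Equiv.Perm ℕ} (h1 : M.Ind X B x π)
    (h2 : M.Ind X B x σ) : π = σ := by
  ext i
  rcases lt_or_ge i B with hi | hi
  · exact hd _ (h1.lt hi) _ (h2.lt hi) ((h1.2 i hi).symm.trans (h2.2 i hi))
  · rw [h1.1 i hi, h2.1 i hi]

variable (M X B) in
/-- check: the rows are reduced and strictly increasing (`B ≤ k * m + 1`) -/
def distOK (k m : ℕ) : Bool :=
  band (Nat.ble B (Nat.succ (Nat.mul k m))) (band ((M.cx B).canonb X)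
    (allLt2 k m fun i => cnd (Nat.ble B (Nat.succ i)) true
      (Nat.ble (Nat.succ (fld M.W X i)) (fld M.W X (Nat.succ i)))))

theorem dist_of {k m : ℕ} (h : M.distOK X B k m = true) : M.Dist X B := by
  simp only [distOK, band_eq_true, ble_iff] at h
  obtain ⟨h1, h2, h3⟩ := h
  have h4 : ∀ i, i + 1 < B → fld M.W X i < fld M.W X (i + 1) := by
    intro i hi
    have h5 := allLt2_spec h3 i (by simp only [Nat.mul_eq] at h1; omega)
    rw [cnd_eq_ite, if_neg (by rw [ble_iff]; omega), blt_iff] at h5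
    exact h5
  have h5 : ∀ d i, i + d + 1 < B → fld M.W X i < fld M.W X (i + d + 1) := by
    intro d
    induction d with
    | zero => intro i hi; exact h4 i hi
    | succ d ih => intro i hi; exact (ih i (by omega)).trans (h4 (i + d + 1) (by omega))
  have hc := PCtx.lt_of_canonb (M.good_cx B) M.haw h2
  intro i hi j hj e
  have h6 : fld M.W X i = fld M.W X j := fld_eq_of_rowv M.good.1 hc hc e
  rcases lt_trichotomy i j with h7 | h7 | h7
  · obtain ⟨d, rfl⟩ := Nat.exists_eq_add_of_lt h7
    exact absurd h6 (h5 d i hj).ne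
  · exact h7
  · obtain ⟨d, rfl⟩ := Nat.exists_eq_add_of_lt h7
    exact absurd h6 (h5 d j hi).ne'

/-- the permutation representation of the set stabiliser -/
def permHom (hd : M.Dist X B) : M.setStab X B →* Equiv.Perm ℕ :=
  MonoidHom.mk' (fun x => x.2.choose) fun x y =>
    Ind.uniq hd (x * y).2.choose_spec (x.2.choose_spec.mul y.2.choose_spec)

theorem ind_permHom (hd : M.Dist X B) (x : M.setStab X B) : M.Ind X B x (permHom hd x) :=
  x.2.choose_spec

variable (M X) in
/-- check for the rows `i0, …, i0 + m - 1` (those below `B`) -/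
def blkOK (B : ℕ) (e : WE) (nt : Net) (i0 m : ℕ) : Bool :=
  band ((M.cx m).okb (blk M.W X i0 m))
    (allLt m fun i => cnd (Nat.ble B (Nat.add i0 i)) true
      (Nat.beq (fld M.W (M.ac m e true (blk M.W X i0 m)) i) (fld M.W X (nt.app (Nat.add i0 i)))))

/-- the statement proved by the block checks, for the rows from `i0` on -/
def From (M : MRep p n G) (X B : ℕ) (e : WE) (nt : Net) (i0 : ℕ) : Prop :=
  ∀ i, i0 ≤ i → i < B → M.row X i ᵥ* M.mat (e.eval M.γ)⁻¹ = M.row X (nt.app i)

theorem From.last {e : WE} {nt : Net} {i0 : ℕ} (h : B ≤ i0) : M.From X B e nt i0 :=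
  fun _ h1 h2 => by omega

theorem From.step {e : WE} {nt : Net} {i0 m i1 : ℕ} (h : M.blkOK X B e nt i0 m = true)
    (hi : i0 + m = i1) (ht : M.From X B e nt i1) : M.From X B e nt i0 := by
  intro i h1 h2
  rcases le_or_gt i1 i with h3 | h3
  · exact ht i h3 h2
  obtain ⟨d, rfl⟩ := Nat.exists_eq_add_of_le h1
  rw [blkOK, band_eq_true] at h
  have hd : d < m := by omega
  have h4 := allLt_spec h.2 d hd
  rw [cnd_eq_ite, if_neg (by rw [ble_iff, Nat.add_eq]; omega), beq_iff] at h4
  have h5 := M.row_ac_inv e h.1 hd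
  have h6 : M.row (blk M.W X i0 m) d = M.row X (i0 + d) := rowv_eq_of_fld (fld_blk hd)
  rw [← h6, ← h5]
  exact rowv_eq_of_fld h4

theorem From.ind {e : WE} {nt : Net} {B' : ℕ} (hn : nt.ok B' = true)
    (hB : ∀ i, B ≤ i → nt.app i = i) (h : M.From X B e nt 0) : M.Ind X B (e.eval M.γ) nt.perm :=
  ⟨fun i hi => by rw [Net.perm_apply hn, hB i hi],
    fun i hi => by rw [Net.perm_apply hn]; exact h i (Nat.zero_le _) hi⟩

end MRep

/-- the networks fix all points from `B` on -/
def fixAbove (ns : List Net) (B B' : ℕ) : Bool :=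
  allL ns fun nt => allLt (Nat.sub B' B) fun i => Nat.beq (nt.app (Nat.add B i)) (Nat.add B i)

theorem fixAbove_spec {ns : List Net} {B B' : ℕ} (hok : netsOK B' ns = true)
    (h : fixAbove ns B B' = true) (c i : ℕ) (hi : B ≤ i) : (net ns c).app i = i := by
  rcases le_or_gt B' i with h1 | h1
  · exact Net.app_of_le (net_ok hok c) h1
  rcases getD'_mem_or ns Net.nil c with h2 | h2
  · obtain ⟨d, rfl⟩ := Nat.exists_eq_add_of_le hi
    exact beq_iff.1 (allLt_spec (allL_spec h _ h2) d (by simp only [Nat.sub_eq]; omega))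
  · rw [net, h2]; rfl

namespace MRep
variable {p n : ℕ} {G : Type*} [Group G] {M : MRep p n G} {X B : ℕ}

/-- the value of the `c`-th word expression -/
def colE (γ : ℕ → G) (es : List WE) (c : ℕ) : G := (getD' es (.pow (.g 0) 0) c).eval γ

theorem colE_of_le {γ : ℕ → G} {es : List WE} {c : ℕ} (hc : es.length ≤ c) : colE γ es c = 1 := by
  rw [colE, getD'_eq, List.getD_eq_default _ _ hc, WE.eval, pow_zero]

theorem ind_colE {es : List WE} {ns : List Net} {B' : ℕ} (hok : netsOK B' ns = true)
    (hf : fixAbove ns B B' = true) (hl : ns.length = es.length)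
    (h : ∀ c < es.length, M.From X B (getD' es (.pow (.g 0) 0) c) (net ns c) 0) (c : ℕ) :
    M.Ind X B (colE M.γ es c) (pm ns c) := by
  rcases lt_or_ge c es.length with hc | hc
  · exact (h c hc).ind (net_ok hok c) (fixAbove_spec hok hf c)
  · rw [colE_of_le hc, pm_of_le (hl ▸ hc)]; exact Ind.one

/-- The permutation representation of the set stabiliser, with the columns `es`. -/
def vecRep (hd : M.Dist X B) (es : List WE) (ns : List Net) (B' : ℕ) (hok : netsOK B' ns = true)
    (h : ∀ c, M.Ind X B (colE M.γ es c) (pm ns c)) : Rep (M.setStab X B) where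
  B := B'
  ns := ns
  γ := fun c => ⟨colE M.γ es c, _, h c⟩
  φ := permHom hd
  ok := hok
  compat := fun c => Ind.uniq hd (ind_permHom hd _) (h c)

/-- an inverse column needs no check -/
theorem From.inv {e : WE} {nt : Net} {B' : ℕ} (hn : nt.ok B' = true)
    (hB : ∀ i, B ≤ i → nt.app i = i) (h : M.From X B e nt 0) : M.From X B (.inv e) nt.rev 0 := by
  have h1 := (h.ind hn hB).inv
  intro i _ hi
  rw [← Net.perm_rev hn] at h1
  rw [← Net.perm_apply (Net.ok_rev hn)]
  exact h1.2 i hi

end MRep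

/-! ### chains with exact orbits -/

/-- the subgroup generated by all words of a chain -/
def chainSub {G : Type*} [Group G] (γ : ℕ → G) : Chain → Subgroup G
  | .nil => ⊥
  | .cons gens _ _ _ tl => gen γ gens ⊔ chainSub γ tl

/-- `S` is invariant under all words of the chain -/
def chainClosed (ns : List Net) (S : ℕ) (c : Chain) : Bool :=
  @Chain.rec (fun _ => Bool) true (fun gens _ _ _ _ ih => band (closedW ns gens S) ih) c

/-- the check of a chain with exact orbits -/
def chainExact (ns : List Net) (k e : ℕ) (c : Chain) : Bool :=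
  @Chain.rec (fun _ => Bool) true
    (fun gens b steps n tl ih =>
      band (cardIs k e (grow ns gens steps (sing b)) n) (band (tb (grow ns gens steps (sing b)) b)
        (band (closedW ns gens (grow ns gens steps (sing b)))
          (band (chainClosed ns (grow ns gens steps (sing b)) tl) (band (tl.fixes ns b) ih))))) c

section
variable {G : Type*} [Group G] (ρ : Rep G)

/-- the stabiliser of a set of points -/
def repSetStab (S : Set ℕ) : Subgroup G where
  carrier := {g | ∀ q, ρ.φ g q ∈ S ↔ q ∈ S}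
  one_mem' := by simp
  mul_mem' := by
    intro x y hx hy q
    rw [map_mul, Equiv.Perm.mul_apply, hx, hy]
  inv_mem' := by
    intro x hx q
    rw [← hx]; simp

theorem chainSub_le_setStab {S : ℕ} {c : Chain} (h : chainClosed ρ.ns S c = true) :
    chainSub ρ.γ c ≤ repSetStab ρ (bset S) := by
  induction c with
  | nil => exact bot_le
  | cons gens b steps n tl ih =>
    have h' : band (closedW ρ.ns gens S) (chainClosed ρ.ns S tl) = true := h
    rw [band_eq_true] at h'
    exact sup_le (fun g hg q => ρ.apply_mem_iff_of_closedW h'.1 hg q) (ih h'.2)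

theorem chainSub_le_stab {b : ℕ} {c : Chain} (h : c.fixes ρ.ns b = true) :
    chainSub ρ.γ c ≤ ρ.stab b := by
  induction c with
  | nil => exact bot_le
  | cons gens b' steps n tl ih =>
    have h' : band (fixW ρ.ns gens b) (tl.fixes ρ.ns b) = true := h
    rw [band_eq_true] at h'
    exact sup_le (ρ.gen_le_stab h'.1) (ih h'.2)

theorem chain_dvd {k e : ℕ} {c : Chain} (h : chainExact ρ.ns k e c = true) {Z : Subgroup G}
    (hZ : Z ≤ ρ.φ.ker) : c.prod * Nat.card Z ∣ Nat.card ↥(chainSub ρ.γ c ⊔ Z) := by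
  induction c with
  | nil =>
    show 1 * _ ∣ Nat.card ↥(⊥ ⊔ Z)
    rw [bot_sup_eq, one_mul]
  | cons gens b steps n tl ih =>
    have h' : band (cardIs k e (grow ρ.ns gens steps (sing b)) n)
      (band (tb (grow ρ.ns gens steps (sing b)) b)
        (band (closedW ρ.ns gens (grow ρ.ns gens steps (sing b)))
          (band (chainClosed ρ.ns (grow ρ.ns gens steps (sing b)) tl)
            (band (tl.fixes ρ.ns b) (chainExact ρ.ns k e tl))))) = true := h
    simp only [band_eq_true, tb_eq] at h'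
    obtain ⟨h1, h2, h3, h4, h5, h6⟩ := h'
    set S := grow ρ.ns gens steps (sing b)
    set K := chainSub ρ.γ (.cons gens b steps n tl) ⊔ Z with hK
    have hZ1 : ∀ z ∈ Z, ∀ q, ρ.φ z q = q := fun z hz q => by rw [MonoidHom.mem_ker.1 (hZ hz)]; rfl
    have hS : K ≤ repSetStab ρ (bset S) :=
      sup_le (sup_le (fun g hg q => ρ.apply_mem_iff_of_closedW h3 hg q) (chainSub_le_setStab ρ h4))
        fun z hz q => by rw [hZ1 z hz]
    have ho : ρ.orb K b = bset S := by
      apply Set.Subset.antisymm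
      · rintro q ⟨g, hg, rfl⟩
        exact (hS hg b).2 h2
      · exact ρ.grow_subset (le_sup_of_le_left le_sup_left) steps (ρ.bset_sing_subset K b)
    have hle : chainSub ρ.γ tl ⊔ Z ≤ K ⊓ ρ.stab b :=
      le_inf (sup_le_sup_right le_sup_right Z) (sup_le (chainSub_le_stab ρ h5) fun z hz => hZ1 z hz b)
    show n * tl.prod * Nat.card Z ∣ _
    rw [ρ.card_eq_ncard_orb_mul K b, ho, cardIs_spec h1, mul_assoc]
    exact Nat.mul_dvd_mul_left n ((ih h6).trans (Subgroup.card_dvd_of_le hle))

theorem chain_dvd_card {k e : ℕ} {c : Chain} (h : chainExact ρ.ns k e c = true) {Z : Subgroup G}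
    (hZ : Z ≤ ρ.φ.ker) : c.prod * Nat.card Z ∣ Nat.card G :=
  (chain_dvd ρ h hZ).trans (Subgroup.card_subgroup_dvd_card _)

theorem chain_prod_dvd_card {k e : ℕ} {c : Chain} (h : chainExact ρ.ns k e c = true) :
    c.prod ∣ Nat.card G := by
  simpa using chain_dvd_card ρ h (Z := ⊥) bot_le

end

end

end CL.SpM
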